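import Groth.Agent.Lib.HensCoh4.Pair
import Groth.Agent.Lib.PullLoc25.Flat
import Groth.Agent.Lib.FormalFun.HomLift
import Groth.Agent.Lib.QCoh.FT
import Groth.Agent.Lib.PullLoc25.ExactFlat
import Groth.Agent.Lib.FormalFun.HomComplete

/-!
# Elements of the Henselization of a module

Sections of `ι^* K` are locally combinations of pulled back sections; for `K` killed by a power of `I`
they are exactly the sections of `K`; for `K` coherent they are detected by the quotients `K / I^n K`.
-/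

set_option autoImplicit false

universe u

open CategoryTheory AlgebraicGeometry Opposite TopologicalSpace
open GrothLib.FormalFun (toSec toStalk)
open GrothLib.PullLoc25 GrothLib.HensSpec

namespace GrothLib.HensCoh4

variable {A : Type u} [CommRing A] {I : Ideal A} {X : Scheme.{u}} [X.Over (Spec (CommRingCat.of A))]
  {Xh : LocallyRingedSpace.{u}} (ι : Xh ⟶ X.toLocallyRingedSpace)

/-- The Henselization of a module. -/
noncomputable abbrev hMod (K : X.Modules) : ModSite.Mod Xh.sheaf := (HensSch.pullMod ι).obj K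

/-- Its sections. -/
abbrev HSec (K : X.Modules) (V : Opens Xh) : Type u := ModSite.sect (hMod ι K) V

/-- Restriction of sections. -/
noncomputable abbrev rH (K : X.Modules) {V W : Opens Xh} (h : W ≤ V) : HSec ι K V →+ HSec ι K W :=
  FlatRel25.res (hMod ι K) (homOfLE h)

/-- The image of a section. -/
noncomputable def ps (K : X.Modules) (D : X.Opens) : Γ(K, D) →+ HSec ι K (pre ι D) :=
  AddMonoidHom.mk' (fun m => pullSec (HensSch.rmor ι) K (U := D) m) fun m m' =>
    map_add (((HensSch.rmor ι).adj.unit.app K).val.app (op D)).hom m m'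

theorem ps_smul (K : X.Modules) (D : X.Opens) (a : Γ(X, D)) (m : Γ(K, D)) :
    ps ι K D (a • m) = pull ι D a • ps ι K D m :=
  pullSec_smul (HensSch.rmor ι) K (W := D) a m

theorem ps_res (K : X.Modules) {D D' : X.Opens} (h : D' ≤ D) (m : Γ(K, D)) :
    ps ι K D' (K.presheaf.map (homOfLE h).op m) =
      rH ι K (show pre ι D' ≤ pre ι D from fun _ hx => h hx) (ps ι K D m) :=
  (pullSec_natural (HensSch.rmor ι) K (homOfLE h) m).trans
    (congrArg (fun g => FlatRel25.res (hMod ι K) g (ps ι K D m)) (Subsingleton.elim _ _))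

theorem ps_map {K K' : X.Modules} (φ : K ⟶ K') (D : X.Opens) (m : Γ(K, D)) :
    ((HensSch.pullMod ι).map φ).val.app (op (pre ι D)) (ps ι K D m) = ps ι K' D (φ.app D m) :=
  map_pullSec (HensSch.rmor ι) φ (U := D) m

/-- Equality of sections is local. -/
theorem eq_of_locally (K : X.Modules) {V : Opens Xh} (s t : HSec ι K V)
    (h : ∀ x ∈ V, ∃ (W : Opens Xh) (hW : W ≤ V), x ∈ W ∧ rH ι K hW s = rH ι K hW t) : s = t := by
  choose W hW hxW he using h
  let S : Sieve V :=
    { arrows := fun U' _ => ∃ x, ∃ hx : x ∈ V, U' ≤ W x hx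
      downward_closed := fun {U' U''} _ ⟨x, hx, hle⟩ k => ⟨x, hx, (leOfHom k).trans hle⟩ }
  have hS : S ∈ Opens.grothendieckTopology Xh V := fun x hx =>
    ⟨W x hx, homOfLE (hW x hx), ⟨x, hx, le_rfl⟩, hxW x hx⟩
  rw [← sub_eq_zero]
  refine FlatRel25_eq_zero_of_locally (hMod ι K) hS fun U' g ⟨x, hx, hle⟩ => ?_
  rw [map_sub, sub_eq_zero]
  have e := congrArg (FlatRel25.res (hMod ι K) (homOfLE hle)) (he x hx)
  rw [FlatRel25.res_res, FlatRel25.res_res] at e
  rw [Subsingleton.elim g (homOfLE hle ≫ homOfLE (hW x hx))]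
  exact e

variable {ι}
variable (hh : HensSch.IsHenselizationAlong X (locus A I X) Xh ι)

include hh

theorem mem_locus (x : Xh) : ι.base x ∈ locus A I X := hh.2.2.1.le ⟨x, rfl⟩

/-- A good open whose preimage lies in a given neighbourhood. -/
theorem exists_good_le [IsLocallyNoetherian X] {V : Opens Xh} {x : Xh} (hx : x ∈ V) (O : X.Opens)
    (hxO : ι.base x ∈ O) :
    ∃ D : X.Opens, ι.base x ∈ D ∧ D ≤ O ∧ pre ι D ≤ V ∧ Good A ι I D := by
  obtain ⟨O', hO', he⟩ := hh.2.1.toIsInducing.isOpen_iff.mp V.isOpen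
  have hxO' : ι.base x ∈ O' := (he.ge hx : x ∈ ι.base ⁻¹' O')
  obtain ⟨D, hxD, hle, hD⟩ := exists_good ι hh (mem_locus hh x) (O ⊓ ⟨O', hO'⟩) ⟨hxO, hxO'⟩
  exact ⟨D, hxD, hle.trans inf_le_left, fun z hz => he.le (hle hz).2, hD⟩

/-- Locally, sections are combinations of images of sections over a good open. -/
theorem exists_mem_span [IsLocallyNoetherian X] (K : X.Modules) {V : Opens Xh} (s : HSec ι K V)
    {x : Xh} (hx : x ∈ V) (O : X.Opens) (hxO : ι.base x ∈ O) :
    ∃ (D : X.Opens) (hV : pre ι D ≤ V), ι.base x ∈ D ∧ D ≤ O ∧ Good A ι I D ∧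
      rH ι K hV s ∈ Submodule.span (Sec Xh (pre ι D)) (Set.range (ps ι K D)) := by
  classical
  obtain ⟨S, hS, hlam⟩ := exists_lam (HensSch.rmor ι) K s
  obtain ⟨V', g, hg, hxV'⟩ := hS x hx
  obtain ⟨c, hc⟩ := hlam g hg
  rw [lam_apply] at hc
  let cs : (Σ i : Idx (O_D := X.toLocallyRingedSpace.sheaf) K, V' ⟶ pre ι i.1) →₀ Sec Xh V' := c
  obtain ⟨D, hxD, hle, hV', hD⟩ := exists_good_le hh hxV' (O ⊓ cs.support.inf fun e => e.1.1)
    ⟨hxO, by
      suffices ∀ T : Finset (Σ i : Idx (O_D := X.toLocallyRingedSpace.sheaf) K, V' ⟶ pre ι i.1),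
          ι.base x ∈ T.inf fun e => e.1.1 from this _
      intro T
      induction T using Finset.induction_on with
      | empty => rw [Finset.inf_empty]; trivial
      | insert e T he ih => rw [Finset.inf_insert]; exact ⟨leOfHom e.2 hxV', ih⟩⟩
  refine ⟨D, hV'.trans (leOfHom g), hxD, hle.trans inf_le_left, hD, ?_⟩
  have e1 : rH ι K (hV'.trans (leOfHom g)) s =
      rH ι K hV' (FlatRel25.res (hMod ι K) g s) :=
    ((FlatRel25.res_res (F := hMod ι K) g (homOfLE hV') s).trans
      (congrArg (fun k => FlatRel25.res (hMod ι K) k s) (Subsingleton.elim _ _))).symm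
  rw [e1, ← hc, Finsupp.sum, map_sum]
  refine Submodule.sum_mem _ fun e he => ?_
  have hDe : D ≤ e.1.1 := hle.trans (inf_le_right.trans (Finset.inf_le he))
  erw [FlatRel25.res_smul]
  refine Submodule.smul_mem _ _ (Submodule.subset_span ⟨K.presheaf.map (homOfLE hDe).op e.1.2, ?_⟩)
  rw [ps_res]
  exact (congrArg (fun k => FlatRel25.res (hMod ι K) k (ps ι K e.1.1 e.1.2)) (Subsingleton.elim _ _)).trans
    (FlatRel25.res_res (F := hMod ι K) e.2 (homOfLE hV') _).symm

omit hh in
theorem toSec_smul_eq_zero {K : X.Modules} {J : Ideal A} (hK : Formal.KilledBy J K) (D : X.Opens) {a : A}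
    (ha : a ∈ J) (m : Γ(K, D)) : toSec A D a • m = 0 :=
  congrArg (fun φ : K ⟶ K => φ.app D m) (hK a ha)

omit hh in
theorem smul_eq_zero_of_mem {K : X.Modules} {J : Ideal A} (hK : Formal.KilledBy J K) (D : X.Opens)
    {r : Γ(X, D)} (hr : r ∈ J.map (toSec A D)) (m : Γ(K, D)) : r • m = 0 := by
  induction hr using Submodule.span_induction generalizing m with
  | mem r hr => obtain ⟨a, ha, rfl⟩ := hr; exact toSec_smul_eq_zero hK D ha m
  | zero => exact zero_smul _ m
  | add r s _ _ hr hs => rw [add_smul, hr, hs, add_zero]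
  | smul c r _ hr => rw [smul_eq_mul, mul_smul, hr, smul_zero]

omit hh in
/-- A module killed by a power of `I` has no stalks outside the locus. -/
theorem germ_eq_zero_of_notMem {K : X.Modules} {n : ℕ} (hK : Formal.KilledBy (I ^ n) K) {D : X.Opens}
    {y : X} (hy : y ∈ D) (hyY : y ∉ locus A I X) (m : Γ(K, D)) : K.presheaf.germ D y hy m = 0 := by
  obtain ⟨a, ha, hay⟩ := Set.not_subset.1 (show ¬ (I : Set A) ⊆ _ from hyY)
  have hu : y ∈ X.basicOpen (toSec A D a) := (mem_basicOpen_toSec D a y hy).2 hay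
  rw [Scheme.mem_basicOpen _ _ y hy] at hu
  have h0 := congrArg (K.presheaf.germ D y hy)
    (toSec_smul_eq_zero hK D (Ideal.pow_mem_pow ha n) m)
  rw [WeakAss.germ_smul, map_zero, map_pow, map_pow] at h0
  exact (hu.pow n).smul_eq_zero.1 h0

/-- Sections of a killed module are detected in the Henselization. -/
theorem eq_zero_of_ps_eq_zero [IsLocallyNoetherian X] {K : X.Modules} {n : ℕ}
    (hK : Formal.KilledBy (I ^ n) K) {O : X.Opens} {m : Γ(K, O)} (hm : ps ι K O m = 0) : m = 0 := by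
  classical
  refine GrothLib.FormalFun.section_ext_germ K fun y hy => ?_
  rw [map_zero]
  by_cases hyY : y ∈ locus A I X
  swap
  · exact germ_eq_zero_of_notMem hK hy hyY m
  obtain ⟨x, rfl⟩ := hh.2.2.1.ge hyY
  let e₀ : (Σ i : Idx (O_D := X.toLocallyRingedSpace.sheaf) K, pre ι O ⟶ pre ι i.1) := ⟨⟨O, m⟩, 𝟙 _⟩
  have hy₀ : (lam (HensSch.rmor ι) K).app (op (pre ι O)) (gen' (HensSch.rmor ι) K e₀) = 0 := by
    rw [lam_gen']
    refine Eq.trans ?_ hm
    exact res_id (hMod ι K) (ps ι K O m)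
  obtain ⟨S, hS, hrel⟩ := exists_rel (HensSch.rmor ι) K _ hy₀
  obtain ⟨V', g, hg, hxV'⟩ := hS x hy
  obtain ⟨d, hd⟩ := hrel g hg
  erw [gen'_map] at hd
  rw [relMap_apply] at hd
  let ds : (Σ R : Rel (O_D := X.toLocallyRingedSpace.sheaf) K, V' ⟶ pre ι R.W) →₀ Sec Xh V' := d
  obtain ⟨D, hxD, hle, hV', hD⟩ := exists_good_le hh hxV' (O ⊓ ds.support.inf fun R => R.1.W)
    ⟨hy, by
      suffices ∀ T : Finset (Σ R : Rel (O_D := X.toLocallyRingedSpace.sheaf) K, V' ⟶ pre ι R.W),
          ι.base x ∈ T.inf fun R => R.1.W from this _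
      intro T
      induction T using Finset.induction_on with
      | empty => rw [Finset.inf_empty]; trivial
      | insert e T he ih => rw [Finset.inf_insert]; exact ⟨leOfHom e.2 hxV', ih⟩⟩
  obtain ⟨θ, hθ⟩ := hD.eval n
  have hTor : Module.IsTorsionBySet Γ(X, D) Γ(K, D) ((I ^ n).map (toSec A D)) :=
    fun z r => smul_eq_zero_of_mem hK D r.2 z
  letI : Module (Γ(X, D) ⧸ (I ^ n).map (toSec A D)) Γ(K, D) := hTor.module
  let θ' : Sec Xh V' →+* Γ(X, D) ⧸ (I ^ n).map (toSec A D) := θ.comp (res hV')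
  let μ : (Σ i : Idx (O_D := X.toLocallyRingedSpace.sheaf) K, V' ⟶ pre ι i.1) → Γ(K, D) := fun e =>
    if h : D ≤ e.1.1 then K.presheaf.map (homOfLE h).op e.1.2 else 0
  let ψ : ((Σ i : Idx (O_D := X.toLocallyRingedSpace.sheaf) K, V' ⟶ pre ι i.1) →₀ Sec Xh V') →+ Γ(K, D) :=
    Finsupp.liftAddHom fun e => AddMonoidHom.mk' (fun c => θ' c • μ e) fun c c' => by rw [map_add, add_smul]
  have hψ1 : ∀ e c, ψ (Finsupp.single e c) = θ' c • μ e := fun e c =>
    Finsupp.liftAddHom_apply_single _ e c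
  have hψs : ∀ (c : Sec Xh V') z, ψ (c • z) = θ' c • ψ z := by
    intro c z
    induction z using Finsupp.induction_linear with
    | zero => simp
    | add a b ha hb => rw [smul_add, map_add, map_add, ha, hb, smul_add]
    | single e c' => rw [Finsupp.smul_single, hψ1, hψ1, smul_eq_mul, map_mul, mul_smul]
  have hcoef : ∀ (W : X.Opens) (q : V' ⟶ pre ι W) (hW : D ≤ W) (r : Γ(X, W)),
      θ' (coef (HensSch.rmor ι) (W := W) q r) =
        Ideal.Quotient.mk _ (X.presheaf.map (homOfLE hW).op r) := by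
    intro W q hW r
    rw [← hθ]
    show θ (res hV' (res (leOfHom q) (pull ι W r))) = θ (pull ι D (res (X := X.toLocallyRingedSpace) hW r))
    rw [pull_res, res_res]
  have hrel0 : ∀ R ∈ ds.support, ψ (relVec (HensSch.rmor ι) K (V := V') R) = 0 := by
    intro R hR
    have hDW : D ≤ R.1.W := hle.trans (inf_le_right.trans (Finset.inf_le hR))
    have h0 := congrArg (K.presheaf.map (homOfLE hDW).op) R.1.rel
    replace h0 := h0.trans (map_zero _)
    rw [Finsupp.sum] at h0
    erw [map_sum] at h0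
    simp only [relVec, Finsupp.sum]
    erw [map_sum]
    refine (Finset.sum_congr rfl fun a ha => ?_).trans h0
    have hDa : D ≤ a.1.1 := hDW.trans (leOfHom a.2)
    refine (hψs _ _).trans ?_
    erw [hψ1]
    erw [map_one, one_smul, hcoef R.1.W R.2 hDW]
    show Ideal.Quotient.mk _ _ • μ _ = _
    rw [Module.IsTorsionBySet.mk_smul]
    simp only [μ]
    rw [dif_pos hDa]
    refine Eq.trans ?_ (Scheme.Modules.map_smul _ _ _ _).symm
    congr 1
    exact (congrArg (fun k => K.presheaf.map k.op a.1.2) (Subsingleton.elim (homOfLE hDa) (homOfLE hDW ≫ a.2))).trans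
      (ConcreteCategory.congr_hom (K.presheaf.map_comp a.2.op (homOfLE hDW).op) a.1.2)
  have hm0 : K.presheaf.map (homOfLE (hle.trans inf_le_left)).op m = 0 := by
    have h1 := congrArg ψ hd
    erw [hψ1] at h1
    erw [map_one, one_smul] at h1
    simp only [μ] at h1
    rw [dif_pos (show D ≤ ((gens (HensSch.rmor ι) K).map g.op e₀).1.1 from hle.trans inf_le_left)] at h1
    refine h1.symm.trans ?_
    rw [Finsupp.sum]
    erw [map_sum]
    exact Finset.sum_eq_zero fun R hR => (hψs _ _).trans (by rw [hrel0 R hR, smul_zero])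
  have h2 := congrArg (K.presheaf.germ D (ι.base x) hxD) hm0
  rw [TopCat.Presheaf.germ_res_apply, map_zero] at h2
  exact h2

/-- Locally, a section of the Henselization of a killed module comes from the module. -/
theorem exists_local_preimage [IsLocallyNoetherian X] {K : X.Modules} {n : ℕ}
    (hK : Formal.KilledBy (I ^ n) K) {V : Opens Xh} (s : HSec ι K V) {x : Xh} (hx : x ∈ V) (O : X.Opens)
    (hxO : ι.base x ∈ O) :
    ∃ (D : X.Opens) (hV : pre ι D ≤ V), ι.base x ∈ D ∧ D ≤ O ∧ ∃ m : Γ(K, D), ps ι K D m = rH ι K hV s := by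
  obtain ⟨D, hV, hxD, hDO, hD, hs⟩ := exists_mem_span hh K s hx O hxO
  refine ⟨D, hV, hxD, hDO, ?_⟩
  generalize rH ι K hV s = z at hs
  induction hs using Submodule.span_induction with
  | mem z hz => exact hz
  | zero => exact ⟨0, map_zero _⟩
  | add z w _ _ hz hw =>
    obtain ⟨m, rfl⟩ := hz
    obtain ⟨m', rfl⟩ := hw
    exact ⟨m + m', map_add _ _ _⟩
  | smul b z _ hz =>
    obtain ⟨m, rfl⟩ := hz
    obtain ⟨a, ha⟩ := hD.approx n b
    refine ⟨a • m, ?_⟩
    rw [ps_smul, eq_comm, ← sub_eq_zero, ← sub_smul]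
    generalize b - pull ι D a = r at ha
    clear hV hxD hDO
    induction ha using Submodule.span_induction with
    | mem r hr =>
      obtain ⟨r, hr', rfl⟩ := hr
      rw [← ps_smul, smul_eq_zero_of_mem hK D hr', map_zero]
    | zero => exact zero_smul _ (ps ι K D m)
    | add r r' _ _ h h' => rw [add_smul, h, h', add_zero]
    | smul c r _ h => rw [smul_eq_mul, mul_smul, h, smul_zero]

/-- Global sections of a killed module and of its Henselization agree. -/
theorem ps_bijective [IsLocallyNoetherian X] {K : X.Modules} {n : ℕ}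
    (hK : Formal.KilledBy (I ^ n) K) (O : X.Opens) : Function.Bijective (ps ι K O) := by
  classical
  refine ⟨(injective_iff_map_eq_zero _).2 fun m hm => eq_zero_of_ps_eq_zero hh hK hm, fun s => ?_⟩
  have hch : ∀ y : {y : X // y ∈ O}, ∃ (D : X.Opens) (hD : D ≤ O) (m : Γ(K, D)), y.1 ∈ D ∧
      ps ι K D m = rH ι K (show pre ι D ≤ pre ι O from fun _ hx => hD hx) s := by
    rintro ⟨y, hy⟩
    by_cases hyY : y ∈ locus A I X
    · obtain ⟨x, rfl⟩ := hh.2.2.1.ge hyY
      obtain ⟨D, hV, hxD, hDO, m, hm⟩ := exists_local_preimage hh hK s (x := x) hy O hy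
      exact ⟨D, hDO, m, hxD, hm⟩
    · refine ⟨O ⊓ ⟨(locus A I X)ᶜ, hh.1.isOpen_compl⟩, inf_le_left, 0, ⟨hy, hyY⟩, ?_⟩
      refine eq_of_locally ι K _ _ fun x hx => ?_
      exact absurd (mem_locus hh x) hx.2
  choose D hDO m hyD hm using hch
  have hcomp : TopCat.Presheaf.IsCompatible (C := Ab.{u}) K.presheaf D m := by
    intro y z
    apply (injective_iff_map_eq_zero (ps ι K (D y ⊓ D z))).2 (fun w hw => eq_zero_of_ps_eq_zero hh hK hw)
    show ps ι K _ (K.presheaf.map (homOfLE (inf_le_left : D y ⊓ D z ≤ D y)).op (m y)) =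
      ps ι K _ (K.presheaf.map (homOfLE (inf_le_right : D y ⊓ D z ≤ D z)).op (m z))
    rw [ps_res, ps_res, hm, hm]
    exact (FlatRel25.res_res (F := hMod ι K) _ _ s).trans
      ((congrArg (fun k => FlatRel25.res (hMod ι K) k s) (Subsingleton.elim _ _)).trans
        (FlatRel25.res_res (F := hMod ι K) _ _ s).symm)
  obtain ⟨t, ht, -⟩ := TopCat.Sheaf.existsUnique_gluing' (C := Ab.{u}) ⟨K.presheaf, K.isSheaf⟩ D O
    (fun y => homOfLE (hDO y)) (fun y hy => Opens.mem_iSup.2 ⟨⟨y, hy⟩, hyD _⟩) m hcomp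
  refine ⟨t, eq_of_locally ι K _ _ fun x hx => ?_⟩
  refine ⟨pre ι (D ⟨ι.base x, hx⟩), fun _ hz => hDO _ hz, hyD _, ?_⟩
  rw [← ps_res ι K (hDO _), ← hm]
  exact congrArg (ps ι K _) (ht _)

/-- A section vanishing in every quotient by a power of `I` vanishes. -/
theorem eq_zero_of_forall_quot [IsLocallyNoetherian X] {G : X.Modules} (hG : Coh.IsCoh G) {V : Opens Xh}
    (s : HSec ι G V)
    (h : ∀ n, ((HensSch.pullMod ι).map (Formal.modPowπ I n G)).val.app (op V) s = 0) : s = 0 := by
  classical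
  have := hG.1
  refine eq_of_locally ι G _ _ fun x hx => ?_
  obtain ⟨D, hV, hxD, -, hD, hs⟩ := exists_mem_span hh G s hx ⊤ trivial
  refine ⟨pre ι D, hV, hxD, ?_⟩
  rw [map_zero]
  haveI := GrothLib.QCoh.moduleFinite_of_isFiniteType G hG.2 hD.affine
  obtain ⟨r, k, hk⟩ := Submodule.fg_iff_exists_fin_generating_family.1
    (Module.Finite.fg_top (R := Γ(X, D)) (M := Γ(G, D)))
  let B := Sec Xh (pre ι D)
  let Ψ : (Fin r → B) →ₗ[B] HSec ι G (pre ι D) := Fintype.linearCombination B fun i => ps ι G D (k i)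
  let v : (Fin r → Γ(X, D)) → Fin r → B := fun a i => pull ι D (a i)
  have hΨ : ∀ a, Ψ (v a) = ps ι G D (∑ i, a i • k i) := fun a => by
    simp only [Ψ, v, Fintype.linearCombination_apply, map_sum, ps_smul]
  obtain ⟨b, hb⟩ : rH ι G hV s ∈ LinearMap.range Ψ := by
    refine Submodule.span_le.2 ?_ hs
    rintro _ ⟨m, rfl⟩
    obtain ⟨a, ha⟩ := Submodule.mem_span_range_iff_exists_fun Γ(X, D) |>.1
      (show m ∈ Submodule.span Γ(X, D) (Set.range k) by rw [hk]; trivial)
    exact ⟨v a, by rw [hΨ, ha]⟩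
  let L : Ideal B := (I.map (toSec A D)).map (pull ι D)
  let N : Submodule B (Fin r → B) := Submodule.span B (v '' {a | ∑ i, a i • k i = 0})
  suffices Submodule.Quotient.mk (p := N) b = 0 by
    rw [Submodule.Quotient.mk_eq_zero] at this
    have hN : N ≤ LinearMap.ker Ψ := Submodule.span_le.2 fun _ ⟨a, ha, e⟩ => by
      rw [SetLike.mem_coe, LinearMap.mem_ker, ← e, hΨ, ha, map_zero]
    rw [← hb, LinearMap.mem_ker.1 (hN this)]
  haveI := hD.noeth
  rw [← Submodule.mem_bot B, ← Ideal.iInf_pow_smul_eq_bot_of_le_jacobson (M := (Fin r → B) ⧸ N) L hD.jac,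
    Submodule.mem_iInf]
  intro n
  have hLn : ((I ^ n).map (toSec A D)).map (pull ι D) = L ^ n := by rw [Ideal.map_pow, Ideal.map_pow]
  choose a ha using fun i => hD.approx n (b i)
  set π := Formal.modPowπ I n G
  have hKn : Formal.KilledBy (I ^ n) (Formal.modPow I n G) := GrothLib.FormalSys.killedBy_modPow n G
  have hz : π.app D (∑ i, a i • k i) = 0 := by
    refine eq_zero_of_ps_eq_zero hh hKn ?_
    rw [← ps_map, ← hΨ]
    have e0 : ((HensSch.pullMod ι).map π).val.app (op (pre ι D)) (Ψ b) = 0 := by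
      rw [hb]
      exact (PresheafOfModules.naturality_apply ((HensSch.pullMod ι).map π).val (homOfLE hV).op s).trans
        ((congrArg _ (h n)).trans (map_zero _))
    rw [← e0]
    simp only [Ψ, v, Fintype.linearCombination_apply]
    erw [map_sum, map_sum]
    refine Finset.sum_congr rfl fun i _ => ?_
    erw [map_smul, map_smul]
    rw [ps_map, eq_comm, ← sub_eq_zero, ← sub_smul]
    have h1 := ha i
    generalize b i - pull ι D (a i) = t at h1
    induction h1 using Submodule.span_induction with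
    | mem t ht =>
      obtain ⟨t, ht', rfl⟩ := ht
      rw [← ps_smul, smul_eq_zero_of_mem hKn D ht', map_zero]
    | zero => exact zero_smul _ _
    | add t t' _ _ h h' => rw [add_smul, h, h', add_zero]
    | smul c t _ h => rw [smul_eq_mul, mul_smul, h, smul_zero]
  have hmem : (∑ i, a i • k i) ∈ ((I ^ n).map (toSec A D)) • (⊤ : Submodule Γ(X, D) Γ(G, D)) := by
    refine GrothLib.FormalFun.mem_of_forall_germ_mem hD.affine _ fun y hy => ?_
    refine (GrothLib.FormalFun.mem_fil_iff I n G y _).2 ?_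
    rw [GrothLib.QCoh.stalkLin_germ, hz, map_zero]
  rw [← hk, Submodule.mem_ideal_smul_span_iff_exists_sum] at hmem
  obtain ⟨c, hc, hce⟩ := hmem
  replace hce := (Finsupp.sum_fintype c (fun i c => c • k i) (fun i => zero_smul _ _)).symm.trans hce
  have hN : v (fun i => a i - c i) ∈ N := Submodule.subset_span ⟨_, by
    simp only [Set.mem_setOf_eq, sub_smul, Finset.sum_sub_distrib, hce, sub_self], rfl⟩
  have hb' : ∀ i, (b - v (fun i => a i - c i)) i ∈ L ^ n := fun i => by
    rw [← hLn, Pi.sub_apply, show b i - v (fun i => a i - c i) i = (b i - pull ι D (a i)) + pull ι D (c i) by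
      simp only [v, map_sub]; ring]
    exact add_mem (ha i) (Ideal.mem_map_of_mem _ (hc i))
  have hb'' := GrothLib.FormalFun.pi_mem_smul_top (L ^ n) (P := B) (v := b - v (fun i => a i - c i)) |>.2
    (fun i => by simpa using hb' i)
  have := Submodule.mem_map_of_mem (f := N.mkQ) hb''
  rw [Submodule.map_smul'', Submodule.map_top, Submodule.range_mkQ, Submodule.mkQ_apply,
    Submodule.Quotient.mk_sub, (Submodule.Quotient.mk_eq_zero _).2 hN, sub_zero] at this
  exact this

end GrothLib.HensCoh4
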