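import Groth.Agent.Lib.HensCoh4.Elements
import Groth.Agent.Lib.FormalFun.FullFaithful

/-!
# Formal GAGA for the Henselization of a proper scheme over an adically complete ring

Global sections of coherent modules and morphisms between them do not change under Henselization.
-/

set_option autoImplicit false

universe u

open CategoryTheory AlgebraicGeometry Opposite TopologicalSpace
open GrothLib.FormalFun GrothLib.FormalSys GrothLib.Cohom
open GrothLib.HensSpec GrothLib.PullLoc25

namespace GrothLib.HensCoh4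

variable {A : Type u} [CommRing A] [IsNoetherianRing A] {I : Ideal A} [IsAdicComplete I A] {X : Scheme.{u}}
  [X.Over (Spec (CommRingCat.of A))] [IsProper (X ↘ Spec (CommRingCat.of A))]
  {Xh : LocallyRingedSpace.{u}} {ι : Xh ⟶ X.toLocallyRingedSpace}

omit [IsNoetherianRing A] [IsAdicComplete I A] in
theorem isProperOver_of_isClosed {Z : Set X} (hZ : IsClosed Z) :
    ClSub.IsProperOver (X ↘ Spec (CommRingCat.of A)) Z := by
  haveI : IsProper (𝟙 X ≫ (X ↘ Spec (CommRingCat.of A))) := by rw [Category.id_comp]; infer_instance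
  exact ProperOver.isProperOver_of_closedImmersion _ (𝟙 X) hZ fun z _ => ⟨z, rfl⟩

omit [IsAdicComplete I A] in
theorem isLocallyNoetherian (A : Type u) [CommRing A] [IsNoetherianRing A] (X : Scheme.{u})
    [X.Over (Spec (CommRingCat.of A))] [IsProper (X ↘ Spec (CommRingCat.of A))] : IsLocallyNoetherian X :=
  LocallyOfFiniteType.isLocallyNoetherian (X ↘ Spec (CommRingCat.of A))

/-- Formal functions in degree zero. -/
theorem bij_zero {F : X.Modules} (hF : Coh.IsCoh F) : Bij I F 0 := by
  haveI := isLocallyNoetherian A X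
  haveI : CompactSpace X :=
    QuasiCompact.compactSpace_of_compactSpace (X ↘ Spec (CommRingCat.of A))
  haveI : IsNoetherian X := {}
  exact bij_of_finite I Coh.IsCoh (fun _ h => h) (fun _ _ _ h => h)
    (fun M hM q => ProjCoh.moduleFinite_HH_of_isProperOver A M hM
      (isProperOver_of_isClosed (QCoh.isClosed_support_of_isCoh hM)) q) F hF 0

/-- Global sections are determined by their images in the quotients by powers of `I`. -/
theorem sections_bijective {F : X.Modules} (hF : Coh.IsCoh F) :
    (∀ m : Γ(F, ⊤), (∀ n, (Formal.modPowπ I (n + 1) F).app ⊤ m = 0) → m = 0) ∧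
    ∀ z : ∀ n, Γ(Formal.modPow I (n + 1) F, ⊤),
      (∀ n, (Formal.modPowTrans I (n + 1) F).app ⊤ (z (n + 1)) = z n) →
      ∃ m, ∀ n, (Formal.modPowπ I (n + 1) F).app ⊤ m = z n := by
  have hb := bij_zero (I := I) hF
  have hH0 : ∀ {P Q : X.Modules} (f : P ⟶ Q) (z : Coh.HH X P 0),
      ProjCoh.H0top Q (hhMap A f 0 z) = f.app ⊤ (ProjCoh.H0top P z) := fun f z =>
    ProjCoh.H0top_map ((QCoh.toAbFun X).map f) z
  refine ⟨fun m hm => ?_, fun z hz => ?_⟩
  · have := hb.1 ((ProjCoh.H0top F).symm m) fun n => (ProjCoh.H0top _).injective (by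
      rw [hH0, AddEquiv.apply_symm_apply, map_zero]
      exact hm n)
    rwa [AddEquiv.map_eq_zero_iff] at this
  · obtain ⟨x, hx⟩ := hb.2 (fun n => (ProjCoh.H0top _).symm (z n)) fun n => (ProjCoh.H0top _).injective (by
      rw [hH0, AddEquiv.apply_symm_apply, AddEquiv.apply_symm_apply]
      exact hz n)
    exact ⟨ProjCoh.H0top F x, fun n => by rw [← hH0, hx n, AddEquiv.apply_symm_apply]⟩

omit [IsNoetherianRing A] [IsAdicComplete I A] [X.Over (Spec (CommRingCat.of A))]
  [IsProper (X ↘ Spec (CommRingCat.of A))] in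
/-- Functoriality of the Henselization, elementwise. -/
theorem map_comp_apply {K K' K'' : X.Modules} (f : K ⟶ K') (g : K' ⟶ K'') (V : Opens Xh) (x : HSec ι K V) :
    ((HensSch.pullMod ι).map (f ≫ g)).val.app (op V) x =
      ((HensSch.pullMod ι).map g).val.app (op V) (((HensSch.pullMod ι).map f).val.app (op V) x) :=
  congrArg (fun k : (HensSch.pullMod ι).obj K ⟶ (HensSch.pullMod ι).obj K'' => k.val.app (op V) x)
    ((HensSch.pullMod ι).map_comp f g)

omit [IsNoetherianRing A] [IsAdicComplete I A] [IsProper (X ↘ Spec (CommRingCat.of A))] in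
/-- Compatibility of the quotient maps, elementwise. -/
theorem trans_π_apply (n : ℕ) (K : X.Modules) (V : Opens Xh) (x : HSec ι K V) :
    ((HensSch.pullMod ι).map (Formal.modPowTrans I n K)).val.app (op V)
        (((HensSch.pullMod ι).map (Formal.modPowπ I (n + 1) K)).val.app (op V) x) =
      ((HensSch.pullMod ι).map (Formal.modPowπ I n K)).val.app (op V) x :=
  (map_comp_apply _ _ V x).symm.trans
    (congrArg (fun k : K ⟶ Formal.modPow I n K => ((HensSch.pullMod ι).map k).val.app (op V) x)
      (Formal.modPowπ_trans I n K))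

variable (hh : HensSch.IsHenselizationAlong X (locus A I X) Xh ι)
include hh

/-- A coherent module and its Henselization have the same global sections. -/
theorem ps_top_bijective {F : X.Modules} (hF : Coh.IsCoh F) : Function.Bijective (ps ι F ⊤) := by
  haveI := isLocallyNoetherian A X
  obtain ⟨hinj, hsurj⟩ := sections_bijective (I := I) hF
  refine ⟨(injective_iff_map_eq_zero _).2 fun m hm => hinj m fun n => ?_, fun σ => ?_⟩
  · refine eq_zero_of_ps_eq_zero hh (killedBy_modPow (n + 1) F) ?_
    rw [← ps_map, hm]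
    exact map_zero _
  choose z hz using fun n => (ps_bijective hh (killedBy_modPow (I := I) (n + 1) F) ⊤).2
    (((HensSch.pullMod ι).map (Formal.modPowπ I (n + 1) F)).val.app (op (pre ι ⊤)) σ)
  obtain ⟨m, hm⟩ := hsurj z fun n => by
    apply (ps_bijective hh (killedBy_modPow (I := I) (n + 1) F) ⊤).1
    rw [← ps_map, hz, hz]
    exact trans_π_apply (n + 1) F _ σ
  refine ⟨m, sub_eq_zero.1 (eq_zero_of_forall_quot hh hF _ fun n => ?_)⟩
  have h0 : ((HensSch.pullMod ι).map (Formal.modPowπ I (n + 1) F)).val.app (op (pre ι ⊤)) (ps ι F ⊤ m - σ) = 0 :=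
    (map_sub _ _ _).trans (by rw [ps_map, hm, hz, sub_self])
  refine (trans_π_apply n F _ _).symm.trans ?_
  exact (congrArg (((HensSch.pullMod ι).map (Formal.modPowTrans I n F)).val.app (op (pre ι ⊤))) h0).trans
    (map_zero _)

omit hh in
/-- Compatible maps to the quotients come from a unique morphism. -/
theorem existsUnique_of_compatible {F G : X.Modules} (hF : Coh.IsCoh F) (hG : Coh.IsCoh G)
    (χ : ∀ n, F ⟶ Formal.modPow I (n + 1) G)
    (hχ : ∀ n, χ (n + 1) ≫ Formal.modPowTrans I (n + 1) G = χ n) :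
    ∃! φ : F ⟶ G, ∀ n, φ ≫ Formal.modPowπ I (n + 1) G = χ n := by
  choose c hc using fun n =>
    (IsQuot.modPowπ I (n + 1) F).exists_desc' (χ n) (killedBy_modPow (n + 1) G)
  have hsucc : ∀ (M : X.Modules) (n : ℕ), (Formal.completion I M).map (homOfLE (Nat.le_succ n)).op =
      Formal.modPowTrans I (n + 1) M := fun M n =>
    Functor.ofOpSequence_map_homOfLE_succ (X := fun n => Formal.modPow I (n + 1) M)
      (fun n => Formal.modPowTrans I (n + 1) M) n
  let ψ : Formal.completion I F ⟶ Formal.completion I G := natTrans c fun n => by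
    haveI := epi_modPowπ I (n + 1 + 1) F
    refine (cancel_epi (Formal.modPowπ I (n + 1 + 1) F)).1 ?_
    rw [hsucc, hsucc]
    refine ((Category.assoc _ _ _).symm.trans ?_).trans (Category.assoc _ _ _)
    refine (congrArg (· ≫ c n) (Formal.modPowπ_trans I (n + 1) F)).trans ((hc n).trans ?_)
    exact ((congrArg (· ≫ Formal.modPowTrans I (n + 1) G) (hc (n + 1))).trans (hχ n)).symm
  obtain ⟨φ, hφ, hu⟩ := existsUnique_hom_of_isProperOver I F G hF hG
    (isProperOver_of_isClosed ((QCoh.isClosed_support_of_isCoh hF).inter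
      (QCoh.isClosed_support_of_isCoh hG))) ψ
  exact ⟨φ, fun n => (hφ n).symm.trans (hc n), fun φ' h' => hu φ' fun n => (hc n).trans (h' n).symm⟩

/-- A morphism of Henselizations followed by reduction modulo a power of `I`, on the module itself. -/
theorem exists_level [IsLocallyNoetherian X] {F G : X.Modules}
    (h : (HensSch.pullMod ι).obj F ⟶ (HensSch.pullMod ι).obj G) (n : ℕ) :
    ∃ χ : F ⟶ Formal.modPow I n G, ∀ (U : X.Opens) (m : Γ(F, U)),
      ps ι _ U (χ.app U m) =
        ((HensSch.pullMod ι).map (Formal.modPowπ I n G)).val.app (op (pre ι U))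
          (h.val.app (op (pre ι U)) (ps ι F U m)) := by
  let K := Formal.modPow I n G
  let π := (HensSch.pullMod ι).map (Formal.modPowπ I n G)
  let e : ∀ U : X.Opens, Γ(K, U) ≃+ HSec ι K (pre ι U) := fun U =>
    AddEquiv.ofBijective (ps ι K U) (ps_bijective hh (killedBy_modPow n G) U)
  let f : ∀ U : X.Opens, Γ(F, U) →+ Γ(K, U) := fun U =>
    (e U).symm.toAddMonoidHom.comp (((π.val.app (op (pre ι U))).hom.toAddMonoidHom.comp
      (h.val.app (op (pre ι U))).hom.toAddMonoidHom).comp (ps ι F U))
  have hf : ∀ (U : X.Opens) (m : Γ(F, U)),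
      ps ι K U (f U m) = π.val.app (op (pre ι U)) (h.val.app (op (pre ι U)) (ps ι F U m)) :=
    fun U m => (e U).apply_symm_apply _
  let α : F.presheaf ⟶ K.presheaf :=
    { app := fun U => AddCommGrpCat.ofHom (f U.unop)
      naturality := fun U V i => by
        ext m
        apply (e V.unop).injective
        change ps ι K V.unop (f V.unop (F.presheaf.map i m)) = ps ι K V.unop (K.presheaf.map i (f U.unop m))
        rw [show i = (homOfLE (leOfHom i.unop)).op from rfl, ps_res, hf, hf, ps_res]
        exact (congrArg (π.val.app (op (pre ι V.unop))) (PresheafOfModules.naturality_apply h.val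
          (homOfLE (show pre ι V.unop ≤ pre ι U.unop from fun _ hx => leOfHom i.unop hx)).op
          (ps ι F U.unop m))).trans (PresheafOfModules.naturality_apply π.val _ _) }
  refine ⟨⟨PresheafOfModules.homMk α fun U (a : Γ(X, U.unop)) (m : Γ(F, U.unop)) => ?_⟩, hf⟩
  apply (e U.unop).injective
  change ps ι K U.unop (f U.unop (a • m)) = ps ι K U.unop (a • f U.unop m)
  rw [ps_smul, hf, hf, ps_smul]
  exact (congrArg (π.val.app _) (map_smul (h.val.app (op (pre ι U.unop))).hom _ _)).trans
    (map_smul (π.val.app (op (pre ι U.unop))).hom _ _)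

/-- Henselization is fully faithful on coherent modules. -/
theorem map_bijective {F G : X.Modules} (hF : Coh.IsCoh F) (hG : Coh.IsCoh G) :
    Function.Bijective ((HensSch.pullMod ι).map :
      (F ⟶ G) → ((HensSch.pullMod ι).obj F ⟶ (HensSch.pullMod ι).obj G)) := by
  haveI := isLocallyNoetherian A X
  refine ⟨fun (φ φ' : F ⟶ G) he => ?_, fun h => ?_⟩
  · obtain ⟨ψ, -, hu⟩ := existsUnique_of_compatible (I := I) hF hG
      (fun n => φ ≫ Formal.modPowπ I (n + 1) G) fun n => by
        rw [Category.assoc, Formal.modPowπ_trans]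
    refine (hu φ fun n => rfl).trans (hu φ' fun n => ?_).symm
    refine Scheme.Modules.hom_ext _ _ fun U => ?_
    ext m
    apply (ps_bijective hh (killedBy_modPow (I := I) (n + 1) G) U).1
    show ps ι _ U ((Formal.modPowπ I (n + 1) G).app U (φ'.app U m)) =
      ps ι _ U ((Formal.modPowπ I (n + 1) G).app U (φ.app U m))
    rw [← ps_map, ← ps_map, ← ps_map, ← ps_map, he]
  choose χ hχ using fun n => exists_level hh h (n + 1)
  obtain ⟨φ, hφ, -⟩ := existsUnique_of_compatible (I := I) hF hG χ fun n => by
    refine Scheme.Modules.hom_ext _ _ fun U => ?_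
    ext m
    apply (ps_bijective hh (killedBy_modPow (I := I) (n + 1) G) U).1
    show ps ι _ U ((Formal.modPowTrans I (n + 1) G).app U ((χ (n + 1)).app U m)) = _
    rw [← ps_map, hχ, hχ]
    exact trans_π_apply (n + 1) G _ _
  refine ⟨φ, ((HensSch.pullPushAdj ι).homEquiv F ((HensSch.pullMod ι).obj G)).injective ?_⟩
  rw [Adjunction.homEquiv_unit, Adjunction.homEquiv_unit]
  refine Scheme.Modules.hom_ext _ _ fun U => ?_
  ext m
  show ((HensSch.pullMod ι).map φ).val.app (op (pre ι U)) (ps ι F U m) =
    h.val.app (op (pre ι U)) (ps ι F U m)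
  rw [ps_map, ← sub_eq_zero]
  refine eq_zero_of_forall_quot hh hG _ fun n => ?_
  have h0 : ((HensSch.pullMod ι).map (Formal.modPowπ I (n + 1) G)).val.app (op (pre ι U))
      (ps ι G U (φ.app U m) - h.val.app (op (pre ι U)) (ps ι F U m)) = 0 := by
    refine (map_sub _ _ _).trans ?_
    rw [ps_map, ← hχ, ← hφ n, sub_eq_zero]
    rfl
  refine (trans_π_apply n G _ _).symm.trans ?_
  exact (congrArg (((HensSch.pullMod ι).map (Formal.modPowTrans I n G)).val.app (op (pre ι U))) h0).trans
    (map_zero _)

end GrothLib.HensCoh4
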