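import Groth.Agent.Lib.HensSpec.Univ
import Groth.Agent.Lib.Hensel.Noetherian
import Groth.Agent.Lib.FormalFun.Stalk
import Mathlib.RingTheory.Filtration

/-!
# Sections of the adic Henselization over small affine opens

For `X` locally Noetherian over `Spec A`, `ι : Xh ⟶ X` its Henselization along the preimage `Y` of `V(I)`
and a small affine open `D` around a point of `Y`, the ring `B` of sections of `Xh` over `D` is Noetherian,
has `I B` in its Jacobson radical and agrees with `Γ(X, D)` modulo every power of `I`.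
-/

set_option autoImplicit false

universe u

open CategoryTheory AlgebraicGeometry Opposite TopologicalSpace
open GrothLib.FormalFun (toSec toStalk)

namespace GrothLib.HensCoh4

open GrothLib.HensSpec

variable {A : Type u} [CommRing A] {X : Scheme.{u}} [X.Over (Spec (CommRingCat.of A))]

/-- Quotient ring by an ideal in which an ideal is nilpotent: a henselian pair. -/
theorem henselianRing_quotient_of_pow {R : Type u} [CommRing R] (J L : Ideal R) (hJ : J ≤ L.radical) :
    HenselianRing (R ⧸ L) (J.map (Ideal.Quotient.mk L)) := by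
  refine GrothLib.Hensel.henselianRing_of_isNilpotent _ fun x hx ↦ ?_
  obtain ⟨x, hx', rfl⟩ := (Ideal.mem_map_iff_of_surjective _ Ideal.Quotient.mk_surjective).1 hx
  obtain ⟨n, hn⟩ := hJ hx'
  exact ⟨n, by rw [← map_pow, Ideal.Quotient.eq_zero_iff_mem]; exact hn⟩

/-- Points of an open where a function from the base vanishes. -/
theorem mem_basicOpen_toSec (D : X.Opens) (a : A) (y : X) (hy : y ∈ D) :
    y ∈ X.basicOpen (toSec A D a) ↔
      a ∉ ((X ↘ Spec (CommRingCat.of A)) y : PrimeSpectrum A).asIdeal := by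
  have h : X.basicOpen (toSec A D a) =
      D ⊓ (X ↘ Spec (CommRingCat.of A)) ⁻¹ᵁ (Spec (CommRingCat.of A)).basicOpen
        ((Scheme.ΓSpecIso (CommRingCat.of A)).inv.hom a) := by
    rw [Scheme.preimage_basicOpen]
    exact Scheme.basicOpen_res _ _ _
  rw [h, AlgebraicGeometry.basicOpen_eq_of_affine]
  exact ⟨fun h ↦ h.2, fun h ↦ ⟨hy, h⟩⟩

variable (A) in
/-- The preimage of `V(I)`. -/
def locus (I : Ideal A) (X : Scheme.{u}) [X.Over (Spec (CommRingCat.of A))] : Set X :=
  (X ↘ Spec (CommRingCat.of A)).base ⁻¹' PrimeSpectrum.zeroLocus (I : Set A)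

variable {I : Ideal A}

theorem toSec_mem_vanOn (D : X.Opens) {a : A} (ha : a ∈ I) :
    toSec A D a ∈ vanOn (X := X.toLocallyRingedSpace) D (locus A I X) := by
  rw [mem_vanOn]
  exact fun y hy hY h ↦ (mem_basicOpen_toSec D a y hy).1 h (hY ha)

theorem vanOn_le_radical {D : X.Opens} (hD : IsAffineOpen D) :
    vanOn (X := X.toLocallyRingedSpace) D (locus A I X) ≤ (I.map (toSec A D)).radical := by
  intro s hs
  rw [Ideal.radical_eq_sInf]
  refine Ideal.mem_sInf.2 fun {p} hp ↦ ?_
  haveI := hp.2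
  by_contra hsp
  let P : PrimeSpectrum Γ(X, D) := ⟨p, hp.2⟩
  have hy : hD.fromSpec P ∈ D := hD.range_fromSpec.le ⟨P, rfl⟩
  have key : ∀ r : Γ(X, D), hD.fromSpec P ∈ X.basicOpen r ↔ r ∉ p := fun r ↦ by
    rw [← Scheme.Hom.mem_preimage, hD.fromSpec_preimage_basicOpen]
    rfl
  refine mem_vanOn.1 hs _ hy ?_ ((key s).2 hsp)
  intro a ha
  by_contra h
  exact (key _).1 ((mem_basicOpen_toSec D a _ hy).2 h) (hp.1 (Ideal.mem_map_of_mem _ ha))

variable {Xh : LocallyRingedSpace.{u}} (ι : Xh ⟶ X.toLocallyRingedSpace)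

/-- The preimage of an open in the Henselization. -/
abbrev pre (D : X.Opens) : Opens Xh := (Opens.map ι.base).obj D

variable (A) in
/-- A small affine open: `Xh` has the expected ring of sections over it. -/
structure Good (I : Ideal A) (D : X.Opens) : Prop where
  affine : IsAffineOpen D
  noeth : IsNoetherianRing (Sec Xh (pre ι D))
  jac : (I.map (toSec A D)).map (pull ι D) ≤ Ideal.jacobson ⊥
  eval : ∀ n : ℕ, ∃ θ : Sec Xh (pre ι D) →+* Γ(X, D) ⧸ (I ^ n).map (toSec A D),
    θ.comp (pull ι D) = Ideal.Quotient.mk _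
  approx : ∀ (n : ℕ) (b : Sec Xh (pre ι D)), ∃ a : Γ(X, D),
    b - pull ι D a ∈ ((I ^ n).map (toSec A D)).map (pull ι D)

theorem good_of_pair {D : X.Opens} (hD : IsAffineOpen D) [IsNoetherianRing Γ(X, D)] (J : Ideal Γ(X, D))
    (hIJ : I.map (toSec A D) ≤ J) (hJI : J ≤ (I.map (toSec A D)).radical)
    (h : letI := (pull ι D).toAlgebra; Hens2.IsPairHenselization Γ(X, D) J (Sec Xh (pre ι D))) :
    Good A ι I D := by
  letI := (pull ι D).toAlgebra
  have hrad : ∀ n, J ≤ ((I ^ n).map (toSec A D)).radical := fun n ↦ by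
    rw [Ideal.map_pow]
    rcases n with _ | n
    · rw [pow_zero, Ideal.one_eq_top, Ideal.radical_top]
      exact le_top
    · rw [Ideal.radical_pow _ n.succ_ne_zero]
      exact hJI
  have hθ : ∀ n : ℕ, ∃ θ : Sec Xh (pre ι D) →+* Γ(X, D) ⧸ (I ^ n).map (toSec A D),
      θ.comp (pull ι D) = Ideal.Quotient.mk _ := fun n ↦
    (h.2 _ _ _ (henselianRing_quotient_of_pow J _ (hrad n)) le_rfl).exists
  refine ⟨hD, GrothLib.Hensel.IsPairHenselization.isNoetherianRing h, ?_, hθ, fun n b ↦ ?_⟩
  · exact (Ideal.map_mono hIJ).trans h.1.jac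
  · obtain ⟨θ, hθ'⟩ := hθ n
    let L : Ideal (Sec Xh (pre ι D)) := ((I ^ n).map (toSec A D)).map (pull ι D)
    have hJL : J.map (pull ι D) ≤ L.radical :=
      (Ideal.map_mono (hrad n)).trans (Ideal.map_radical_le _)
    let q : Γ(X, D) →+* Sec Xh (pre ι D) ⧸ L := (Ideal.Quotient.mk L).comp (pull ι D)
    let l : Γ(X, D) ⧸ (I ^ n).map (toSec A D) →+* Sec Xh (pre ι D) ⧸ L :=
      Ideal.Quotient.lift _ q fun a ha ↦ Ideal.Quotient.eq_zero_iff_mem.2 (Ideal.mem_map_of_mem _ ha)
    have hq : Ideal.Quotient.mk L = l.comp θ := by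
      refine (h.2 _ _ q (henselianRing_quotient_of_pow (J.map (pull ι D)) L hJL) ?_).unique rfl ?_
      · rw [← Ideal.map_map]
      · show (l.comp θ).comp (pull ι D) = q
        rw [RingHom.comp_assoc, hθ']
        exact RingHom.ext fun a ↦ rfl
    obtain ⟨a, ha⟩ := Ideal.Quotient.mk_surjective (θ b)
    refine ⟨a, Ideal.Quotient.eq.1 ?_⟩
    rw [hq, RingHom.comp_apply, ← ha]
    rw [RingHom.comp_apply, ← RingHom.comp_apply θ, hθ']

/-- Small affine opens form a neighbourhood basis at the points of the locus. -/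
theorem exists_good [IsLocallyNoetherian X] (hh : HensSch.IsHenselizationAlong X (locus A I X) Xh ι)
    {y : X} (hy : y ∈ locus A I X) (O : X.Opens) (hyO : y ∈ O) :
    ∃ D : X.Opens, y ∈ D ∧ D ≤ O ∧ Good A ι I D := by
  obtain ⟨U, hyU, hU, hch⟩ := exists_isChart ι hh y hy
  obtain ⟨f, hfO, hyf⟩ := hU.exists_basicOpen_le (V := O) ⟨y, hyO⟩ hyU
  refine ⟨X.basicOpen f, hyf, hfO, ?_⟩
  haveI : IsNoetherianRing Γ(X, X.basicOpen f) :=
    IsLocallyNoetherian.component_noetherian ⟨_, hU.basicOpen f⟩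
  let r : Γ(X, U) →+* Γ(X, X.basicOpen f) := (X.presheaf.map (homOfLE (X.basicOpen_le f)).op).hom
  have hr : ∀ c : Γ(X, U), pull ι (X.basicOpen f) (r c) = chartMap ι U f c := fun c ↦
    pull_res ι (X.basicOpen_le f) c
  have hrI : ∀ a, r (toSec A U a) = toSec A (X.basicOpen f) a := fun a ↦
    res_res (X := X.toLocallyRingedSpace) le_top (X.basicOpen_le f) _
  refine good_of_pair ι (hU.basicOpen f) ((vanOn (X := X.toLocallyRingedSpace) U (locus A I X)).map r) ?_ ?_ ?_
  · refine Ideal.map_le_iff_le_comap.2 fun a ha ↦ ?_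
    rw [Ideal.mem_comap, ← hrI]
    exact Ideal.mem_map_of_mem _ (toSec_mem_vanOn U ha)
  · refine (Ideal.map_mono (vanOn_le_radical hU)).trans ((Ideal.map_radical_le _).trans ?_)
    rw [Ideal.map_map]
    exact le_of_eq (congrArg Ideal.radical (congrArg (fun g : A →+* _ ↦ I.map g) (RingHom.ext hrI)))
  · obtain ⟨hf, hB, huniv⟩ := hch f
    letI := (pull ι (X.basicOpen f)).toAlgebra
    refine ⟨?_, fun C _ Jc g hC hg ↦ ?_⟩
    · rw [Ideal.map_map]
      have : (pull ι (X.basicOpen f)).comp r = chartMap ι U f := RingHom.ext hr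
      show HenselianRing _ (Ideal.map ((pull ι (X.basicOpen f)).comp r) _)
      rw [this]
      exact hB
    · haveI := hU.isLocalization_basicOpen f
      have hfu : IsUnit (r f) := IsLocalization.Away.algebraMap_isUnit (S := Γ(X, X.basicOpen f)) f
      obtain ⟨h, hh', hu⟩ := huniv C Jc (g.comp r) hC (by rw [← Ideal.map_map]; exact hg) (hfu.map g)
      refine ⟨h, ?_, fun h' hh'' ↦ hu h' ?_⟩
      · refine IsLocalization.ringHom_ext (Submonoid.powers f) ?_
        refine RingHom.ext fun c ↦ ?_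
        show h (pull ι (X.basicOpen f) (r c)) = g (r c)
        rw [hr]
        exact RingHom.congr_fun hh' c
      · refine RingHom.ext fun c ↦ ?_
        show h' (chartMap ι U f c) = g (r c)
        rw [← hr]
        exact RingHom.congr_fun hh'' (r c)

end GrothLib.HensCoh4
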